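import Mathlib
import Cfsg.Prelude.Def_RootSubgroups

/-! The two unitriangular subgroups of SL(2) form a special rank one pair. -/

set_option autoImplicit false

namespace Cfsg.Agent.SL2RankOne

open Matrix

variable {k : Type*} [Field k]

/-- upper unitriangular element -/
def up (x : k) : SpecialLinearGroup (Fin 2) k := ⟨!![1, x; 0, 1], by simp [det_fin_two]⟩

/-- lower unitriangular element -/
def lo (x : k) : SpecialLinearGroup (Fin 2) k := ⟨!![1, 0; x, 1], by simp [det_fin_two]⟩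

theorem ext2 {a b : SpecialLinearGroup (Fin 2) k} (h : (a : Matrix (Fin 2) (Fin 2) k) = b) : a = b :=
  Subtype.ext h

theorem up_coe (x : k) : (up x : Matrix (Fin 2) (Fin 2) k) = !![1, x; 0, 1] := rfl

theorem lo_coe (x : k) : (lo x : Matrix (Fin 2) (Fin 2) k) = !![1, 0; x, 1] := rfl

theorem up_mul (x y : k) : up x * up y = up (x + y) := by
  apply ext2
  simp [up_coe, add_comm]

theorem lo_mul (x y : k) : lo x * lo y = lo (x + y) := by
  apply ext2
  simp [lo_coe]

theorem up_zero : up (0 : k) = 1 := Subtype.ext (by simp [up, one_fin_two])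

theorem lo_zero : lo (0 : k) = 1 := Subtype.ext (by simp [lo, one_fin_two])

theorem up_inv (x : k) : (up x)⁻¹ = up (-x) :=
  inv_eq_of_mul_eq_one_right (by rw [up_mul, add_neg_cancel, up_zero])

theorem lo_inv (x : k) : (lo x)⁻¹ = lo (-x) :=
  inv_eq_of_mul_eq_one_right (by rw [lo_mul, add_neg_cancel, lo_zero])

theorem mem_upper {g : SpecialLinearGroup (Fin 2) k} : g ∈ Cfsg.upperUnipotentSL2 k ↔ ∃ x, g = up x := by
  constructor
  · intro h
    induction h using Subgroup.closure_induction with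
    | mem g hg =>
      obtain ⟨h1, h2, h3⟩ := hg
      refine ⟨(g : Matrix (Fin 2) (Fin 2) k) 0 1, Subtype.ext ?_⟩
      conv_lhs => rw [Matrix.eta_fin_two (g : Matrix (Fin 2) (Fin 2) k)]
      simp [up, h1, h2, h3]
    | one => exact ⟨0, up_zero.symm⟩
    | mul a b _ _ ha hb =>
      obtain ⟨x, rfl⟩ := ha
      obtain ⟨y, rfl⟩ := hb
      exact ⟨x + y, up_mul x y⟩
    | inv a _ ha =>
      obtain ⟨x, rfl⟩ := ha
      exact ⟨-x, up_inv x⟩
  · rintro ⟨x, rfl⟩
    exact Subgroup.subset_closure ⟨by simp [up], by simp [up], by simp [up]⟩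

theorem mem_lower {g : SpecialLinearGroup (Fin 2) k} : g ∈ Cfsg.lowerUnipotentSL2 k ↔ ∃ x, g = lo x := by
  constructor
  · intro h
    induction h using Subgroup.closure_induction with
    | mem g hg =>
      obtain ⟨h1, h2, h3⟩ := hg
      refine ⟨(g : Matrix (Fin 2) (Fin 2) k) 1 0, Subtype.ext ?_⟩
      conv_lhs => rw [Matrix.eta_fin_two (g : Matrix (Fin 2) (Fin 2) k)]
      simp [lo, h1, h2, h3]
    | one => exact ⟨0, lo_zero.symm⟩
    | mul a b _ _ ha hb =>
      obtain ⟨x, rfl⟩ := ha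
      obtain ⟨y, rfl⟩ := hb
      exact ⟨x + y, lo_mul x y⟩
    | inv a _ ha =>
      obtain ⟨x, rfl⟩ := ha
      exact ⟨-x, lo_inv x⟩
  · rintro ⟨x, rfl⟩
    exact Subgroup.subset_closure ⟨by simp [lo], by simp [lo], by simp [lo]⟩

theorem upper_comm : IsMulCommutative (Cfsg.upperUnipotentSL2 k) := ⟨⟨fun a b => Subtype.ext (by
  obtain ⟨x, hx⟩ := mem_upper.1 a.2
  obtain ⟨y, hy⟩ := mem_upper.1 b.2
  rw [Subgroup.coe_mul, Subgroup.coe_mul, hx, hy, up_mul, up_mul, add_comm])⟩⟩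

theorem lower_comm : IsMulCommutative (Cfsg.lowerUnipotentSL2 k) := ⟨⟨fun a b => Subtype.ext (by
  obtain ⟨x, hx⟩ := mem_lower.1 a.2
  obtain ⟨y, hy⟩ := mem_lower.1 b.2
  rw [Subgroup.coe_mul, Subgroup.coe_mul, hx, hy, lo_mul, lo_mul, add_comm])⟩⟩

theorem sup_eq_top : Cfsg.lowerUnipotentSL2 k ⊔ Cfsg.upperUnipotentSL2 k = ⊤ := by
  rw [eq_top_iff]
  intro g _
  set S := Cfsg.lowerUnipotentSL2 k ⊔ Cfsg.upperUnipotentSL2 k
  have hu : ∀ x : k, up x ∈ S := fun x => Subgroup.mem_sup_right (mem_upper.2 ⟨x, rfl⟩)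
  have hl : ∀ x : k, lo x ∈ S := fun x => Subgroup.mem_sup_left (mem_lower.2 ⟨x, rfl⟩)
  have key : ∀ g : SpecialLinearGroup (Fin 2) k, (g : Matrix (Fin 2) (Fin 2) k) 1 0 ≠ 0 → g ∈ S := by
    intro g hc
    have hdet := g.2
    rw [det_fin_two] at hdet
    set a := (g : Matrix (Fin 2) (Fin 2) k) 0 0
    set b := (g : Matrix (Fin 2) (Fin 2) k) 0 1
    set c := (g : Matrix (Fin 2) (Fin 2) k) 1 0
    set d := (g : Matrix (Fin 2) (Fin 2) k) 1 1
    have : g = up ((a - 1) / c) * lo c * up ((d - 1) / c) := by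
      apply ext2
      ext i j
      fin_cases i <;> fin_cases j <;> simp [up_coe, lo_coe, SpecialLinearGroup.coe_mul, Matrix.mul_apply, Fin.sum_univ_two] <;> (try field_simp) <;>
        first | linear_combination -hdet | linear_combination hdet | ring
    rw [this]
    exact S.mul_mem (S.mul_mem (hu _) (hl _)) (hu _)
  by_cases hc : (g : Matrix (Fin 2) (Fin 2) k) 1 0 = 0
  · have hdet := g.2
    rw [det_fin_two, hc, mul_zero, sub_zero] at hdet
    have h2 : lo 1 * g ∈ S := key _ (by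
      show ((lo (1 : k) : Matrix (Fin 2) (Fin 2) k) * (g : Matrix (Fin 2) (Fin 2) k)) 1 0 ≠ 0
      rw [Matrix.mul_apply, Fin.sum_univ_two]
      simp [lo_coe, hc]
      intro h
      rw [h, zero_mul] at hdet
      exact zero_ne_one hdet)
    have := S.mul_mem (hl (-1)) h2
    rwa [← mul_assoc, lo_mul, neg_add_cancel, lo_zero, one_mul] at this
  · exact key g hc

theorem conj_eq {x y z w : k} (hxy : x * y = 1) (hw : w * (x * x) = -z) :
    up (-y) * lo z * up y = lo (-x) * up w * lo x := by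
  apply ext2
  ext i j
  fin_cases i <;> fin_cases j <;> simp [up_coe, lo_coe, SpecialLinearGroup.coe_mul, Matrix.mul_apply, Fin.sum_univ_two]
  · linear_combination (w * x) * hxy - y * hw
  · linear_combination (w * (1 + x * y)) * hxy - y * y * hw
  · linear_combination hw
  · linear_combination (-(w * x)) * hxy + y * hw

theorem conjBy_eq {x y : k} (hxy : x * y = 1) :
    Cfsg.conjBy (Cfsg.lowerUnipotentSL2 k) (up y)⁻¹ = Cfsg.conjBy (Cfsg.upperUnipotentSL2 k) (lo x)⁻¹ := by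
  ext g
  simp only [Cfsg.conjBy, Subgroup.mem_map, MulEquiv.coe_toMonoidHom, MulAut.conj_apply, inv_inv]
  constructor
  · rintro ⟨_, ha, rfl⟩
    obtain ⟨z, rfl⟩ := mem_lower.1 ha
    refine ⟨up (-z * (y * y)), mem_upper.2 ⟨_, rfl⟩, ?_⟩
    rw [up_inv, lo_inv]
    exact (conj_eq hxy (by linear_combination (-z * (1 + x * y)) * hxy)).symm
  · rintro ⟨_, hb, rfl⟩
    obtain ⟨w, rfl⟩ := mem_upper.1 hb
    refine ⟨lo (-(w * (x * x))), mem_lower.2 ⟨_, rfl⟩, ?_⟩
    rw [up_inv, lo_inv]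
    exact conj_eq hxy (by rw [neg_neg])

theorem eq_inv_of_conjBy {x y : k}
    (h : Cfsg.conjBy (Cfsg.lowerUnipotentSL2 k) (up y)⁻¹ = Cfsg.conjBy (Cfsg.upperUnipotentSL2 k) (lo x)⁻¹)
    (hx : x ≠ 0) : x * y = 1 := by
  have hm : (lo x)⁻¹ * up 1 * lo x ∈ Cfsg.conjBy (Cfsg.lowerUnipotentSL2 k) (up y)⁻¹ := by
    rw [h]; exact ⟨up 1, mem_upper.2 ⟨1, rfl⟩, by simp⟩
  obtain ⟨a, ha, he⟩ := hm
  obtain ⟨z, rfl⟩ := mem_lower.1 ha
  simp only [MulEquiv.coe_toMonoidHom, MulAut.conj_apply, inv_inv, up_inv, lo_inv] at he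
  have he' := congrArg (fun g : SpecialLinearGroup (Fin 2) k => (g : Matrix (Fin 2) (Fin 2) k)) he
  have h00 := congrFun (congrFun he' 0) 0
  have h10 := congrFun (congrFun he' 1) 0
  simp [up_coe, lo_coe, SpecialLinearGroup.coe_mul, Matrix.mul_apply, Fin.sum_univ_two] at h00 h10
  apply mul_left_cancel₀ hx
  linear_combination h00 + y * h10

theorem rankOnePair : Cfsg.IsRankOnePair (Cfsg.lowerUnipotentSL2 k) (Cfsg.upperUnipotentSL2 k) where
  ne := fun h => by
    obtain ⟨x, hx⟩ := mem_upper.1 (h ▸ mem_lower.2 ⟨(1 : k), rfl⟩)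
    have := congrArg (fun g : SpecialLinearGroup (Fin 2) k => (g : Matrix (Fin 2) (Fin 2) k) 1 0) hx
    simp [up, lo] at this
  nilpotent_left := @CommGroup.isNilpotent _ { (inferInstance : Group (Cfsg.lowerUnipotentSL2 k)) with
    mul_comm := (lower_comm (k := k)).is_comm.comm }
  nilpotent_right := @CommGroup.isNilpotent _ { (inferInstance : Group (Cfsg.upperUnipotentSL2 k)) with
    mul_comm := (upper_comm (k := k)).is_comm.comm }
  cond_left := fun a ha ha1 => by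
    obtain ⟨x, rfl⟩ := mem_lower.1 ha
    have hx : x ≠ 0 := fun h => ha1 (by rw [h, lo_zero])
    refine ⟨up x⁻¹, mem_upper.2 ⟨_, rfl⟩, fun h => ?_, conjBy_eq (mul_inv_cancel₀ hx)⟩
    have := congrArg (fun g : SpecialLinearGroup (Fin 2) k => (g : Matrix (Fin 2) (Fin 2) k) 0 1) h
    simp [up] at this
    exact hx this
  cond_right := fun b hb hb1 => by
    obtain ⟨y, rfl⟩ := mem_upper.1 hb
    have hy : y ≠ 0 := fun h => hb1 (by rw [h, up_zero])
    refine ⟨lo y⁻¹, mem_lower.2 ⟨_, rfl⟩, fun h => ?_, (conjBy_eq (inv_mul_cancel₀ hy)).symm⟩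
    have := congrArg (fun g : SpecialLinearGroup (Fin 2) k => (g : Matrix (Fin 2) (Fin 2) k) 1 0) h
    simp [lo] at this
    exact hy this

end Cfsg.Agent.SL2RankOne
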